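import Mathlib

/-!
# Integrality of the coefficients of an isomorphism of elliptic Weierstrass curves (helper88)

If `W₁, W₂` are Weierstrass curves over `R` with invertible discriminants and `φ` is a change of
variables over an `R`-algebra `F` carrying `W₁` to `W₂`, then `u, u⁻¹, r, s, t` are integral
over `R`.
-/

set_option autoImplicit false
set_option linter.unusedSectionVars false

namespace Groth.Agent.Lib.Helper88.EllIso

open WeierstrassCurve Polynomial

section Monic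

variable {R F : Type*} [CommRing R] [CommRing F] [Algebra R F]

theorem isIntegral_of_rel (n : ℕ) (q : (integralClosure R F)[X]) (hq : q.degree < n) (x : F)
    (h : x ^ n = aeval x q) : IsIntegral R x := by
  have h1 : IsIntegral (integralClosure R F) x := by
    refine ⟨X ^ n - q, monic_X_pow_sub hq, ?_⟩
    rw [← aeval_def, map_sub, map_pow, aeval_X, h, sub_self]
  exact isIntegral_trans x h1

theorem isIntegral_of_rel_two {x a b : F} (ha : IsIntegral R a) (hb : IsIntegral R b)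
    (h : x ^ 2 = a * x + b) : IsIntegral R x := by
  refine isIntegral_of_rel 2
    (C (⟨a, ha⟩ : integralClosure R F) * X + C (⟨b, hb⟩ : integralClosure R F)) ?_ x ?_
  · exact lt_of_le_of_lt degree_linear_le (by norm_num)
  · rw [h, map_add, map_mul, aeval_C, aeval_C, aeval_X]
    rfl

theorem isIntegral_of_rel_four {x a b c : F} (ha : IsIntegral R a) (hb : IsIntegral R b)
    (hc : IsIntegral R c) (h : x ^ 4 = a * x ^ 2 + b * x + c) : IsIntegral R x := by
  refine isIntegral_of_rel 4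
    (C (⟨a, ha⟩ : integralClosure R F) * X ^ 2 + C (⟨b, hb⟩ : integralClosure R F) * X +
      C (⟨c, hc⟩ : integralClosure R F)) ?_ x ?_
  · exact lt_of_le_of_lt degree_quadratic_le (by norm_num)
  · rw [h, map_add, map_add, map_mul, map_mul, map_pow, aeval_C, aeval_C, aeval_C, aeval_X]
    rfl

end Monic

section Coeffs

variable {R F : Type*} [CommRing R] [CommRing F] [Algebra R F]
  (W₁ W₂ : WeierstrassCurve R) [W₁.IsElliptic] [W₂.IsElliptic] (φ : VariableChange F)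
  (hφ : φ • (W₁.map (algebraMap R F)) = W₂.map (algebraMap R F))

include hφ in
theorem isIntegral_u_inv : IsIntegral R ((φ.u⁻¹ : Fˣ) : F) := by
  have h := congrArg WeierstrassCurve.Δ hφ
  rw [variableChange_Δ, map_Δ, map_Δ] at h
  refine IsIntegral.of_pow (n := 12) (by norm_num) ?_
  have h2 : ((φ.u⁻¹ : Fˣ) : F) ^ 12 = algebraMap R F (W₂.Δ * ((W₁.Δ'⁻¹ : Rˣ) : R)) := by
    rw [map_mul, ← h, mul_assoc, ← map_mul, ← W₁.coe_Δ', Units.mul_inv, map_one, mul_one]
  rw [h2]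
  exact isIntegral_algebraMap

include hφ in
theorem isIntegral_u : IsIntegral R (φ.u : F) := by
  have h := congrArg WeierstrassCurve.Δ hφ
  rw [variableChange_Δ, map_Δ, map_Δ] at h
  refine IsIntegral.of_pow (n := 12) (by norm_num) ?_
  have h3 : (φ.u : F) ^ 12 * ((φ.u⁻¹ : Fˣ) : F) ^ 12 = 1 := by
    rw [← mul_pow, Units.mul_inv, one_pow]
  have h2 : (φ.u : F) ^ 12 = algebraMap R F (W₁.Δ * ((W₂.Δ'⁻¹ : Rˣ) : R)) := by
    have h4 : algebraMap R F W₂.Δ * algebraMap R F ((W₂.Δ'⁻¹ : Rˣ) : R) = 1 := by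
      rw [← map_mul, ← W₂.coe_Δ', Units.mul_inv, map_one]
    rw [map_mul]
    linear_combination (algebraMap R F W₁.Δ * algebraMap R F ((W₂.Δ'⁻¹ : Rˣ) : R)) * h3
      - (φ.u : F) ^ 12 * algebraMap R F ((W₂.Δ'⁻¹ : Rˣ) : R) * h - (φ.u : F) ^ 12 * h4
  rw [h2]
  exact isIntegral_algebraMap

include hφ in
theorem isIntegral_r : IsIntegral R φ.r := by
  have hu := isIntegral_u W₁ W₂ φ hφ
  have h6 := congrArg WeierstrassCurve.b₆ hφ
  have h8 := congrArg WeierstrassCurve.b₈ hφ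
  rw [variableChange_b₆] at h6
  rw [variableChange_b₈] at h8
  have hinv : (φ.u : F) * ((φ.u⁻¹ : Fˣ) : F) = 1 := Units.mul_inv _
  set v := ((φ.u⁻¹ : Fˣ) : F) with hv
  set u := (φ.u : F) with hudef
  have h6' : u ^ 6 * (W₂.map (algebraMap R F)).b₆ = (W₁.map (algebraMap R F)).b₆ +
      2 * φ.r * (W₁.map (algebraMap R F)).b₄ + φ.r ^ 2 * (W₁.map (algebraMap R F)).b₂ +
      4 * φ.r ^ 3 := by
    have hp : u ^ 6 * v ^ 6 = 1 := by rw [← mul_pow, hinv, one_pow]
    rw [← h6]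
    linear_combination ((W₁.map (algebraMap R F)).b₆ +
      2 * φ.r * (W₁.map (algebraMap R F)).b₄ + φ.r ^ 2 * (W₁.map (algebraMap R F)).b₂ +
      4 * φ.r ^ 3) * hp
  have h8' : u ^ 8 * (W₂.map (algebraMap R F)).b₈ = (W₁.map (algebraMap R F)).b₈ +
      3 * φ.r * (W₁.map (algebraMap R F)).b₆ + 3 * φ.r ^ 2 * (W₁.map (algebraMap R F)).b₄ +
      φ.r ^ 3 * (W₁.map (algebraMap R F)).b₂ + 3 * φ.r ^ 4 := by
    have hp : u ^ 8 * v ^ 8 = 1 := by rw [← mul_pow, hinv, one_pow]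
    rw [← h8]
    linear_combination ((W₁.map (algebraMap R F)).b₈ +
      3 * φ.r * (W₁.map (algebraMap R F)).b₆ + 3 * φ.r ^ 2 * (W₁.map (algebraMap R F)).b₄ +
      φ.r ^ 3 * (W₁.map (algebraMap R F)).b₂ + 3 * φ.r ^ 4) * hp
  rw [map_b₂, map_b₄, map_b₆] at h6'
  rw [map_b₂, map_b₄, map_b₆, map_b₈] at h8'
  rw [map_b₆] at h6'
  rw [map_b₈] at h8'
  have hrel : φ.r ^ 4 = algebraMap R F W₁.b₄ * φ.r ^ 2 +
      (algebraMap R F (2 * W₁.b₆) + u ^ 6 * algebraMap R F W₂.b₆) * φ.r +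
      (algebraMap R F W₁.b₈ - u ^ 8 * algebraMap R F W₂.b₈) := by
    rw [map_mul, map_ofNat]
    linear_combination h8' - φ.r * h6'
  refine isIntegral_of_rel_four isIntegral_algebraMap ?_ ?_ hrel
  · exact isIntegral_algebraMap.add ((hu.pow 6).mul isIntegral_algebraMap)
  · exact isIntegral_algebraMap.sub ((hu.pow 8).mul isIntegral_algebraMap)

include hφ in
theorem isIntegral_s : IsIntegral R φ.s := by
  have hu := isIntegral_u W₁ W₂ φ hφ
  have hr := isIntegral_r W₁ W₂ φ hφ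
  have h2 := congrArg WeierstrassCurve.a₂ hφ
  rw [variableChange_a₂, map_a₁, map_a₂, map_a₂] at h2
  have hinv : (φ.u : F) * ((φ.u⁻¹ : Fˣ) : F) = 1 := Units.mul_inv _
  set v := ((φ.u⁻¹ : Fˣ) : F) with hv
  set u := (φ.u : F) with hudef
  have hp : u ^ 2 * v ^ 2 = 1 := by rw [← mul_pow, hinv, one_pow]
  have hrel : φ.s ^ 2 = algebraMap R F (-W₁.a₁) * φ.s +
      (algebraMap R F W₁.a₂ + algebraMap R F 3 * φ.r - u ^ 2 * algebraMap R F W₂.a₂) := by
    rw [map_neg, map_ofNat]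
    linear_combination -(u ^ 2 * h2) + (algebraMap R F W₁.a₂ - φ.s * algebraMap R F W₁.a₁ +
      3 * φ.r - φ.s ^ 2) * hp
  refine isIntegral_of_rel_two isIntegral_algebraMap ?_ hrel
  exact (isIntegral_algebraMap.add (isIntegral_algebraMap.mul hr)).sub
    ((hu.pow 2).mul isIntegral_algebraMap)

include hφ in
theorem isIntegral_t : IsIntegral R φ.t := by
  have hu := isIntegral_u W₁ W₂ φ hφ
  have hr := isIntegral_r W₁ W₂ φ hφ
  have h6 := congrArg WeierstrassCurve.a₆ hφ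
  rw [variableChange_a₆, map_a₁, map_a₂, map_a₃, map_a₄, map_a₆, map_a₆] at h6
  have hinv : (φ.u : F) * ((φ.u⁻¹ : Fˣ) : F) = 1 := Units.mul_inv _
  set v := ((φ.u⁻¹ : Fˣ) : F) with hv
  set u := (φ.u : F) with hudef
  have hp : u ^ 6 * v ^ 6 = 1 := by rw [← mul_pow, hinv, one_pow]
  have hrel : φ.t ^ 2 = (-(algebraMap R F W₁.a₃ + φ.r * algebraMap R F W₁.a₁)) * φ.t +
      (algebraMap R F W₁.a₆ + φ.r * algebraMap R F W₁.a₄ + φ.r ^ 2 * algebraMap R F W₁.a₂ +
        φ.r ^ 3 - u ^ 6 * algebraMap R F W₂.a₆) := by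
    linear_combination -(u ^ 6 * h6) + (algebraMap R F W₁.a₆ + φ.r * algebraMap R F W₁.a₄ +
      φ.r ^ 2 * algebraMap R F W₁.a₂ + φ.r ^ 3 - φ.t * algebraMap R F W₁.a₃ - φ.t ^ 2 -
      φ.r * φ.t * algebraMap R F W₁.a₁) * hp
  refine isIntegral_of_rel_two ?_ ?_ hrel
  · exact (isIntegral_algebraMap.add (hr.mul isIntegral_algebraMap)).neg
  · exact ((((isIntegral_algebraMap.add (hr.mul isIntegral_algebraMap)).add
      ((hr.pow 2).mul isIntegral_algebraMap)).add (hr.pow 3))).sub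
      ((hu.pow 6).mul isIntegral_algebraMap)

end Coeffs

end Groth.Agent.Lib.Helper88.EllIso
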