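import Mathlib

/-!
# Infinitesimal rigidity of automorphisms of Weierstrass curves with invertible discriminant
(helper88)

Over a `κ`-algebra `D` (`κ` a field) with a square-zero ideal `N`, a change of variables congruent
to the identity modulo `N` which fixes (the base change of) an elliptic Weierstrass curve over `κ`
is the identity.
-/

set_option autoImplicit false

namespace Groth.Agent.Lib.Helper88.EllIso

open WeierstrassCurve

section Key

variable {D : Type*} [CommRing D] (N : Ideal D) (hN : ∀ x ∈ N, ∀ y ∈ N, x * y = 0)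

include hN in
theorem one_sub_pow {α : D} (hα : α ∈ N) (k : ℕ) : (1 - α) ^ k = 1 - (k : D) * α := by
  induction k with
  | zero => simp
  | succ k ih =>
    rw [pow_succ, ih]
    have := hN α hα α hα
    push_cast
    linear_combination (k : D) * this

include hN in
theorem key {α x c : D} (hα : α ∈ N) (hx : x ∈ N) (k : ℕ) (h : (1 - α) ^ k * (c + x) = c) :
    x = (k : D) * α * c := by
  rw [one_sub_pow N hN hα] at h
  have := hN α hα x hx
  linear_combination h + (k : D) * this

end Key

section Rigid

variable {κ D : Type*} [Field κ] [CommRing D] [Algebra κ D]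

theorem eq_zero_of_algebraMap_mul {c : κ} (hc : c ≠ 0) {x : D} (h : algebraMap κ D c * x = 0) :
    x = 0 := by
  have := congrArg (fun z => algebraMap κ D c⁻¹ * z) h
  simp only [mul_zero] at this
  rwa [← mul_assoc, ← map_mul, inv_mul_cancel₀ hc, map_one, one_mul] at this

theorem eq_zero_of_mul_algebraMap {c : κ} (hc : c ≠ 0) {x : D} (h : x * algebraMap κ D c = 0) :
    x = 0 := by
  rw [mul_comm] at h
  exact eq_zero_of_algebraMap_mul hc h

end Rigid

section Main

variable {κ D : Type*} [Field κ] [CommRing D] [Algebra κ D]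

theorem delta_eq_zero_char_two (W : WeierstrassCurve κ) (h2 : (2 : κ) = 0) (h1 : W.a₁ = 0)
    (h3 : W.a₃ = 0) : W.Δ = 0 := by
  simp only [WeierstrassCurve.Δ, WeierstrassCurve.b₂, WeierstrassCurve.b₄, WeierstrassCurve.b₆,
    WeierstrassCurve.b₈, h1, h3]
  linear_combination (-8 * W.a₂ ^ 2 * (4 * W.a₂ * W.a₆ - W.a₄ ^ 2) - 32 * W.a₄ ^ 3
    - 216 * W.a₆ ^ 2 + 144 * W.a₂ * W.a₄ * W.a₆) * h2

theorem delta_eq_zero_char_three (W : WeierstrassCurve κ) (h3 : (3 : κ) = 0) (hb2 : W.b₂ = 0)
    (hb4 : W.b₄ = 0) : W.Δ = 0 := by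
  simp only [WeierstrassCurve.Δ, hb2, hb4]
  linear_combination (-9 * W.b₆ ^ 2) * h3

/-- **Infinitesimal rigidity.** -/
theorem rigid (N : Ideal D) (hN : ∀ x ∈ N, ∀ y ∈ N, x * y = 0) (W : WeierstrassCurve κ)
    [W.IsElliptic] (ρ : VariableChange D) (hu : (ρ.u : D) - 1 ∈ N) (hr : ρ.r ∈ N) (hs : ρ.s ∈ N)
    (ht : ρ.t ∈ N)
    (hfix : ρ • (W.map (algebraMap κ D)) = W.map (algebraMap κ D)) : ρ = 1 := by
  have hΔ : W.Δ ≠ 0 := W.isUnit_Δ.ne_zero
  obtain ⟨u, β, γ, δ⟩ := ρ
  simp only at hu hr hs ht
  set α : D := (u : D) - 1 with hαdef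
  have huα : (u : D) = 1 + α := by rw [hαdef]; ring
  have hαα := hN α hu α hu
  have hinv : ((u⁻¹ : Dˣ) : D) = 1 - α := by
    have h1 : ((u⁻¹ : Dˣ) : D) * (u : D) = 1 := u.inv_mul
    rw [huα] at h1
    linear_combination (1 - α) * h1 + ((u⁻¹ : Dˣ) : D) * hαα
  -- the five coefficient equations
  have h1 := congrArg WeierstrassCurve.a₁ hfix
  have h2 := congrArg WeierstrassCurve.a₂ hfix
  have h3 := congrArg WeierstrassCurve.a₃ hfix
  have h4 := congrArg WeierstrassCurve.a₄ hfix
  have h6 := congrArg WeierstrassCurve.a₆ hfix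
  have hb2 := congrArg WeierstrassCurve.b₂ hfix
  have hb4 := congrArg WeierstrassCurve.b₄ hfix
  have hb6 := congrArg WeierstrassCurve.b₆ hfix
  have hb8 := congrArg WeierstrassCurve.b₈ hfix
  have hc4 := congrArg WeierstrassCurve.c₄ hfix
  have hc6 := congrArg WeierstrassCurve.c₆ hfix
  rw [variableChange_a₁, hinv, WeierstrassCurve.map_a₁] at h1
  rw [variableChange_a₂, hinv, WeierstrassCurve.map_a₁, WeierstrassCurve.map_a₂] at h2
  rw [variableChange_a₃, hinv, WeierstrassCurve.map_a₁, WeierstrassCurve.map_a₃] at h3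
  rw [variableChange_a₄, hinv, WeierstrassCurve.map_a₁, WeierstrassCurve.map_a₂,
    WeierstrassCurve.map_a₃, WeierstrassCurve.map_a₄] at h4
  rw [variableChange_a₆, hinv, WeierstrassCurve.map_a₁, WeierstrassCurve.map_a₂,
    WeierstrassCurve.map_a₃, WeierstrassCurve.map_a₄, WeierstrassCurve.map_a₆] at h6
  rw [variableChange_b₂, hinv, WeierstrassCurve.map_b₂] at hb2
  rw [variableChange_b₄, hinv, WeierstrassCurve.map_b₂, WeierstrassCurve.map_b₄] at hb4
  rw [variableChange_b₆, hinv, WeierstrassCurve.map_b₂, WeierstrassCurve.map_b₄,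
    WeierstrassCurve.map_b₆] at hb6
  rw [variableChange_b₈, hinv, WeierstrassCurve.map_b₂, WeierstrassCurve.map_b₄,
    WeierstrassCurve.map_b₆, WeierstrassCurve.map_b₈] at hb8
  rw [variableChange_c₄, hinv, WeierstrassCurve.map_c₄] at hc4
  rw [variableChange_c₆, hinv, WeierstrassCurve.map_c₆] at hc6
  simp only at h1 h2 h3 h4 h6 hb2 hb4 hb6 hb8
  set a1 := algebraMap κ D W.a₁ with ha1
  set a2 := algebraMap κ D W.a₂ with ha2
  set a3 := algebraMap κ D W.a₃ with ha3
  set a4 := algebraMap κ D W.a₄ with ha4
  set a6 := algebraMap κ D W.a₆ with ha6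
  set b2 := algebraMap κ D W.b₂ with hb2def
  set b4 := algebraMap κ D W.b₄ with hb4def
  set b6 := algebraMap κ D W.b₆ with hb6def
  set b8 := algebraMap κ D W.b₈ with hb8def
  set c4 := algebraMap κ D W.c₄ with hc4def
  set c6 := algebraMap κ D W.c₆ with hc6def
  have hββ := hN β hr β hr
  have hβγ := hN β hr γ hs
  have hβδ := hN β hr δ ht
  have hγγ := hN γ hs γ hs
  have hγδ := hN γ hs δ ht
  have hδδ := hN δ ht δ ht
  -- linear equations
  have e1 : 2 * γ = α * a1 := by
    have := key N hN hu (x := 2 * γ) (c := a1) (N.mul_mem_left _ hs) 1 (by rw [pow_one]; exact h1)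
    linear_combination this
  have e2 : -(γ * a1) + 3 * β = 2 * α * a2 := by
    have hx : -(γ * a1) + 3 * β - γ ^ 2 ∈ N :=
      N.sub_mem (N.add_mem (N.neg_mem (N.mul_mem_right _ hs)) (N.mul_mem_left _ hr))
        (N.pow_mem_of_mem hs 2 (by norm_num))
    have := key N hN hu hx (c := a2) 2 (by linear_combination h2)
    linear_combination this + hγγ
  have e3 : β * a1 + 2 * δ = 3 * α * a3 := by
    have hx : β * a1 + 2 * δ ∈ N := N.add_mem (N.mul_mem_right _ hr) (N.mul_mem_left _ ht)
    have := key N hN hu hx (c := a3) 3 (by linear_combination h3)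
    linear_combination this
  have e4 : -(γ * a3) + 2 * β * a2 - δ * a1 = 4 * α * a4 := by
    have hx : -(γ * a3) + 2 * β * a2 - (δ + β * γ) * a1 + 3 * β ^ 2 - 2 * γ * δ ∈ N := by
      refine N.sub_mem (N.add_mem (N.sub_mem (N.add_mem (N.neg_mem (N.mul_mem_right _ hs)) ?_) ?_)
        ?_) ?_
      · exact N.mul_mem_right _ (N.mul_mem_left _ hr)
      · exact N.mul_mem_right _ (N.add_mem ht (N.mul_mem_right _ hr))
      · exact N.mul_mem_left _ (N.pow_mem_of_mem hr 2 (by norm_num))
      · exact N.mul_mem_left _ ht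
    have := key N hN hu hx (c := a4) 4 (by linear_combination h4)
    linear_combination this + a1 * hβγ - 3 * hββ + 2 * hγδ
  have e6 : β * a4 - δ * a3 = 6 * α * a6 := by
    have hx : β * a4 + β ^ 2 * a2 + β ^ 3 - δ * a3 - δ ^ 2 - β * δ * a1 ∈ N := by
      refine N.sub_mem (N.sub_mem (N.sub_mem (N.add_mem (N.add_mem (N.mul_mem_right _ hr) ?_) ?_)
        ?_) ?_) ?_
      · exact N.mul_mem_right _ (N.pow_mem_of_mem hr 2 (by norm_num))
      · exact N.pow_mem_of_mem hr 3 (by norm_num)
      · exact N.mul_mem_right _ ht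
      · exact N.pow_mem_of_mem ht 2 (by norm_num)
      · exact N.mul_mem_right _ (N.mul_mem_right _ hr)
    have := key N hN hu hx (c := a6) 6 (by linear_combination h6)
    linear_combination this - a2 * hββ - β * hββ + hδδ + a1 * hβδ
  have f2 : 12 * β = 2 * α * b2 := by
    have := key N hN hu (x := 12 * β) (c := b2) (N.mul_mem_left _ hr) 2 hb2
    linear_combination this
  have f4 : β * b2 = 4 * α * b4 := by
    have hx : β * b2 + 6 * β ^ 2 ∈ N :=
      N.add_mem (N.mul_mem_right _ hr) (N.mul_mem_left _ (N.pow_mem_of_mem hr 2 (by norm_num)))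
    have := key N hN hu hx (c := b4) 4 (by linear_combination hb4)
    linear_combination this - 6 * hββ
  have f6 : 2 * β * b4 = 6 * α * b6 := by
    have hx : 2 * β * b4 + β ^ 2 * b2 + 4 * β ^ 3 ∈ N := by
      refine N.add_mem (N.add_mem (N.mul_mem_right _ (N.mul_mem_left _ hr)) ?_) ?_
      · exact N.mul_mem_right _ (N.pow_mem_of_mem hr 2 (by norm_num))
      · exact N.mul_mem_left _ (N.pow_mem_of_mem hr 3 (by norm_num))
    have := key N hN hu hx (c := b6) 6 (by linear_combination hb6)
    linear_combination this - b2 * hββ - 4 * β * hββ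
  have f8 : 3 * β * b6 = 8 * α * b8 := by
    have hx : 3 * β * b6 + 3 * β ^ 2 * b4 + β ^ 3 * b2 + 3 * β ^ 4 ∈ N := by
      refine N.add_mem (N.add_mem (N.add_mem (N.mul_mem_right _ (N.mul_mem_left _ hr)) ?_) ?_) ?_
      · exact N.mul_mem_right _ (N.mul_mem_left _ (N.pow_mem_of_mem hr 2 (by norm_num)))
      · exact N.mul_mem_right _ (N.pow_mem_of_mem hr 3 (by norm_num))
      · exact N.mul_mem_left _ (N.pow_mem_of_mem hr 4 (by norm_num))
    have := key N hN hu hx (c := b8) 8 (by linear_combination hb8)
    linear_combination this - 3 * b4 * hββ - β * b2 * hββ - 3 * β ^ 2 * hββ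
  have g4 : 4 * α * c4 = 0 := by
    have := key N hN hu (x := 0) (c := c4) N.zero_mem 4 (by rw [add_zero]; exact hc4)
    linear_combination -this
  have g6 : 6 * α * c6 = 0 := by
    have := key N hN hu (x := 0) (c := c6) N.zero_mem 6 (by rw [add_zero]; exact hc6)
    linear_combination -this
  clear h1 h2 h3 h4 h6 hb2 hb4 hb6 hb8 hc4 hc6
  -- it suffices to show that `α, β, γ, δ` vanish
  suffices h : α = 0 ∧ β = 0 ∧ γ = 0 ∧ δ = 0 by
    obtain ⟨hα0, hβ0, hγ0, hδ0⟩ := h
    rw [VariableChange.one_def]
    congr 1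
    · exact Units.ext (by rw [huα, hα0, add_zero, Units.val_one])
  by_cases k2 : (2 : κ) = 0
  · -- characteristic two
    have two : (2 : D) = 0 := by
      have := congrArg (algebraMap κ D) k2
      rwa [map_ofNat, map_zero] at this
    have e1' : α * a1 = 0 := by linear_combination -e1 + γ * two
    have e2' : β = γ * a1 := by linear_combination e2 - (β - α * a2) * two
    have e3' : β * a1 = α * a3 := by linear_combination e3 - (δ - α * a3) * two
    have e4' : γ * a3 + δ * a1 = 0 := by linear_combination -e4 + (β * a2 - 2 * α * a4) * two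
    have e6' : β * a4 = δ * a3 := by linear_combination e6 + (3 * α * a6) * two
    by_cases k1 : W.a₁ = 0
    · have ha10 : a1 = 0 := by rw [ha1, k1, map_zero]
      have k3 : W.a₃ ≠ 0 := fun k3 => hΔ (delta_eq_zero_char_two W k2 k1 k3)
      have hβ0 : β = 0 := by rw [e2', ha10, mul_zero]
      have hα0 : α = 0 := by
        refine eq_zero_of_mul_algebraMap k3 ?_
        rw [← ha3, ← e3', ha10, mul_zero]
      have hγ0 : γ = 0 := by
        refine eq_zero_of_mul_algebraMap k3 ?_
        rw [← ha3]
        linear_combination e4' - δ * ha10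
      have hδ0 : δ = 0 := by
        refine eq_zero_of_mul_algebraMap k3 ?_
        rw [← ha3, ← e6', hβ0, zero_mul]
      exact ⟨hα0, hβ0, hγ0, hδ0⟩
    · have hα0 : α = 0 := eq_zero_of_mul_algebraMap k1 e1'
      have hβ0 : β = 0 := by
        refine eq_zero_of_mul_algebraMap k1 ?_
        rw [← ha1, e3', hα0, zero_mul]
      have hγ0 : γ = 0 := by
        refine eq_zero_of_mul_algebraMap k1 ?_
        rw [← ha1, ← e2', hβ0]
      have hδ0 : δ = 0 := by
        refine eq_zero_of_mul_algebraMap k1 ?_
        rw [← ha1]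
        linear_combination e4' - a3 * hγ0
      exact ⟨hα0, hβ0, hγ0, hδ0⟩
  · by_cases k3 : (3 : κ) = 0
    · -- characteristic three
      have three : (3 : D) = 0 := by
        have := congrArg (algebraMap κ D) k3
        rwa [map_ofNat, map_zero] at this
      have two_cancel : ∀ x : D, 2 * x = 0 → x = 0 := by
        intro x hx
        refine eq_zero_of_algebraMap_mul k2 ?_
        rwa [map_ofNat]
      have f2' : α * b2 = 0 := by
        apply two_cancel
        linear_combination -f2 + 4 * β * three
      have f4' : β * b2 = α * b4 := by linear_combination f4 + α * b4 * three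
      have f6' : β * b4 = 0 := by
        apply two_cancel
        linear_combination f6 + 2 * α * b6 * three
      have f8' : α * b8 = 0 := by linear_combination f8 - (β * b6 - 3 * α * b8) * three
      have hα0 : α = 0 := by
        by_contra hα
        have kb2 : W.b₂ = 0 := by
          by_contra kb2
          exact hα (eq_zero_of_mul_algebraMap kb2 f2')
        have kb4 : W.b₄ ≠ 0 := fun kb4 => hΔ (delta_eq_zero_char_three W k3 kb2 kb4)
        refine hα (eq_zero_of_mul_algebraMap kb4 ?_)
        rw [← hb4def, ← f4', hb2def, kb2, map_zero, mul_zero]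
      have hγ0 : γ = 0 := by
        apply two_cancel
        rw [e1, hα0, zero_mul]
      have hβ0 : β = 0 := by
        by_cases kb2 : W.b₂ = 0
        · have kb4 : W.b₄ ≠ 0 := fun kb4 => hΔ (delta_eq_zero_char_three W k3 kb2 kb4)
          exact eq_zero_of_mul_algebraMap kb4 f6'
        · refine eq_zero_of_mul_algebraMap kb2 ?_
          rw [← hb2def, f4', hα0, zero_mul]
      have hδ0 : δ = 0 := by
        apply two_cancel
        linear_combination e3 - a1 * hβ0 + 3 * a3 * hα0
      exact ⟨hα0, hβ0, hγ0, hδ0⟩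
    · -- characteristic different from two and three
      have two_cancel : ∀ x : D, 2 * x = 0 → x = 0 := by
        intro x hx
        refine eq_zero_of_algebraMap_mul k2 ?_
        rwa [map_ofNat]
      have three_cancel : ∀ x : D, 3 * x = 0 → x = 0 := by
        intro x hx
        refine eq_zero_of_algebraMap_mul k3 ?_
        rwa [map_ofNat]
      have hcc : W.c₄ ≠ 0 ∨ W.c₆ ≠ 0 := by
        by_contra hcon
        push Not at hcon
        have hrel := W.c_relation
        rw [hcon.1, hcon.2] at hrel
        have h1728 : (1728 : κ) ≠ 0 := by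
          have : (1728 : κ) = 2 ^ 6 * 3 ^ 3 := by norm_num
          rw [this]
          exact mul_ne_zero (pow_ne_zero _ k2) (pow_ne_zero _ k3)
        have : (1728 : κ) * W.Δ = 0 := by rw [hrel]; ring
        rcases mul_eq_zero.mp this with h | h
        · exact h1728 h
        · exact hΔ h
      have hα0 : α = 0 := by
        rcases hcc with hc | hc
        · refine eq_zero_of_mul_algebraMap hc ?_
          rw [← hc4def]
          apply two_cancel
          apply two_cancel
          linear_combination g4
        · refine eq_zero_of_mul_algebraMap hc ?_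
          rw [← hc6def]
          apply two_cancel
          apply three_cancel
          linear_combination g6
      have hγ0 : γ = 0 := by
        apply two_cancel
        rw [e1, hα0, zero_mul]
      have hβ0 : β = 0 := by
        apply three_cancel
        linear_combination e2 + a1 * hγ0 + 2 * a2 * hα0
      have hδ0 : δ = 0 := by
        apply two_cancel
        linear_combination e3 - a1 * hβ0 + 3 * a3 * hα0
      exact ⟨hα0, hβ0, hγ0, hδ0⟩

end Main

end Groth.Agent.Lib.Helper88.EllIso
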