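import Mathlib
import Groth.Agent.Lib.Helper88.EllIso.Rigid
import Groth.Agent.Lib.Helper88.EllIso.Integral
import Groth.Agent.Lib.Helper36.OlivierLocal

/-!
# Elliptic curves with the same `j`-invariant over a complete local domain with algebraically
closed residue field are isomorphic (helper88)
-/

set_option autoImplicit false
set_option linter.unusedSectionVars false
set_option linter.style.haveILetI false

universe u

namespace Groth.Agent.Lib.Helper88.EllIso

open WeierstrassCurve IsLocalRing

section Descend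

variable {R F : Type*} [CommRing R] [CommRing F] (ι : R →+* F) (hι : Function.Injective ι)

include hι in
/-- a change of variables over `F` with coefficients in the image of an injective ring map
descends -/
theorem exists_map_eq (φ : VariableChange F) (hu : (φ.u : F) ∈ Set.range ι)
    (hv : ((φ.u⁻¹ : Fˣ) : F) ∈ Set.range ι) (hr : φ.r ∈ Set.range ι) (hs : φ.s ∈ Set.range ι)
    (ht : φ.t ∈ Set.range ι) : ∃ C : VariableChange R, C.map ι = φ := by
  obtain ⟨u₁, hu₁⟩ := hu
  obtain ⟨v₁, hv₁⟩ := hv
  obtain ⟨r₁, hr₁⟩ := hr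
  obtain ⟨s₁, hs₁⟩ := hs
  obtain ⟨t₁, ht₁⟩ := ht
  have huv : u₁ * v₁ = 1 := by
    apply hι
    rw [map_mul, hu₁, hv₁, map_one, Units.mul_inv]
  have hvu : v₁ * u₁ = 1 := by rw [mul_comm]; exact huv
  refine ⟨⟨⟨u₁, v₁, huv, hvu⟩, r₁, s₁, t₁⟩, ?_⟩
  ext
  · exact hu₁
  · exact hr₁
  · exact hs₁
  · exact ht₁

end Descend

section Core

variable (R S : Type u) [CommRing R] [IsLocalRing R] [IsNoetherianRing R]
  [IsAlgClosed (ResidueField R)]
  [CommRing S] [IsLocalRing S] [Algebra R S] [Module.Finite R S] [IsLocalHom (algebraMap R S)]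
  (W₁ W₂ : WeierstrassCurve R) [W₁.IsElliptic] [W₂.IsElliptic] (φ : VariableChange S)
  (hφ : φ • (W₁.map (algebraMap R S)) = W₂.map (algebraMap R S))

/-- every element of `S` is congruent to an element of `R` modulo the maximal ideal -/
theorem exists_sub_mem_maximalIdeal (x : S) :
    ∃ a : R, x - algebraMap R S a ∈ maximalIdeal S := by
  have hbij : Function.Bijective (algebraMap (ResidueField R) (ResidueField S)) :=
    IsAlgClosed.algebraMap_bijective_of_isIntegral
  obtain ⟨y, hy⟩ := hbij.2 (residue S x)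
  obtain ⟨a, rfl⟩ := residue_surjective y
  refine ⟨a, ?_⟩
  rw [← residue_eq_zero_iff, map_sub, ← hy, ResidueField.algebraMap_residue, sub_self]

include hφ in
/-- the reduction of the approximating change of variables is an isomorphism over the residue
field -/
theorem residue_variableChange (C₀ : VariableChange R)
    (hu : (φ.u : S) - algebraMap R S C₀.u ∈ maximalIdeal S)
    (hr : φ.r - algebraMap R S C₀.r ∈ maximalIdeal S)
    (hs : φ.s - algebraMap R S C₀.s ∈ maximalIdeal S)
    (ht : φ.t - algebraMap R S C₀.t ∈ maximalIdeal S) :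
    (C₀.map ((residue S).comp (algebraMap R S)) = φ.map (residue S)) ∧
    (C₀.map (residue R)) • (W₁.map (residue R)) = W₂.map (residue R) := by
  have hC : C₀.map ((residue S).comp (algebraMap R S)) = φ.map (residue S) := by
    ext
    · simp only [VariableChange.map_u, Units.coe_map, MonoidHom.coe_coe, RingHom.comp_apply]
      rw [eq_comm, ← sub_eq_zero, ← map_sub, residue_eq_zero_iff]
      exact hu
    · simp only [VariableChange.map_r, RingHom.comp_apply]
      rw [eq_comm, ← sub_eq_zero, ← map_sub, residue_eq_zero_iff]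
      exact hr
    · simp only [VariableChange.map_s, RingHom.comp_apply]
      rw [eq_comm, ← sub_eq_zero, ← map_sub, residue_eq_zero_iff]
      exact hs
    · simp only [VariableChange.map_t, RingHom.comp_apply]
      rw [eq_comm, ← sub_eq_zero, ← map_sub, residue_eq_zero_iff]
      exact ht
  refine ⟨hC, ?_⟩
  have hcomp : (algebraMap (ResidueField R) (ResidueField S)).comp (residue R) =
      (residue S).comp (algebraMap R S) := rfl
  apply WeierstrassCurve.map_injective (algebraMap (ResidueField R) (ResidueField S)).injective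
  change ((C₀.map (residue R)) • (W₁.map (residue R))).map
    (algebraMap (ResidueField R) (ResidueField S)) =
    (W₂.map (residue R)).map (algebraMap (ResidueField R) (ResidueField S))
  rw [← map_variableChange, WeierstrassCurve.map_map, WeierstrassCurve.map_map,
    VariableChange.map_map, hcomp, hC, ← WeierstrassCurve.map_map, ← WeierstrassCurve.map_map,
    map_variableChange, hφ]

/-- the ideal `𝔪_R S + 𝔪_S ^ 2` -/
noncomputable abbrev qIdeal : Ideal S :=
  (maximalIdeal R).map (algebraMap R S) ⊔ (maximalIdeal S) ^ 2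

include hφ in
/-- infinitesimal rigidity: the approximation is exact modulo `𝔪_R S + 𝔪_S ^ 2` -/
theorem sub_mem_qIdeal (C₀ : VariableChange R)
    (hu : (φ.u : S) - algebraMap R S C₀.u ∈ maximalIdeal S)
    (hr : φ.r - algebraMap R S C₀.r ∈ maximalIdeal S)
    (hs : φ.s - algebraMap R S C₀.s ∈ maximalIdeal S)
    (ht : φ.t - algebraMap R S C₀.t ∈ maximalIdeal S) :
    (φ.u : S) - algebraMap R S C₀.u ∈ qIdeal R S ∧ φ.r - algebraMap R S C₀.r ∈ qIdeal R S ∧
      φ.s - algebraMap R S C₀.s ∈ qIdeal R S ∧ φ.t - algebraMap R S C₀.t ∈ qIdeal R S := by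
  obtain ⟨hC, hres⟩ := residue_variableChange R S W₁ W₂ φ hφ C₀ hu hr hs ht
  have hq_le : qIdeal R S ≤ maximalIdeal S := by
    exact sup_le (((local_hom_TFAE (algebraMap R S)).out 0 2 rfl rfl).mp inferInstance)
      (Ideal.pow_le_self (by norm_num))
  -- the square-zero quotient
  let π : S →+* S ⧸ qIdeal R S := Ideal.Quotient.mk (qIdeal R S)
  let algκ : ResidueField R →+* S ⧸ qIdeal R S :=
    Ideal.Quotient.lift (maximalIdeal R) (π.comp (algebraMap R S)) (by
      intro a ha
      rw [RingHom.comp_apply, Ideal.Quotient.eq_zero_iff_mem]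
      exact Ideal.mem_sup_left (Ideal.mem_map_of_mem _ ha))
  letI : Algebra (ResidueField R) (S ⧸ qIdeal R S) := algκ.toAlgebra
  have halg : algebraMap (ResidueField R) (S ⧸ qIdeal R S) = algκ := rfl
  have hcomp : algκ.comp (residue R) = π.comp (algebraMap R S) := rfl
  let ψ : S ⧸ qIdeal R S →+* ResidueField S :=
    Ideal.Quotient.lift (qIdeal R S) (residue S) (by
      intro x hx
      rw [residue_eq_zero_iff]
      exact hq_le hx)
  have hψπ : ψ.comp π = residue S := rfl
  have hN : ∀ x ∈ RingHom.ker ψ, ∀ y ∈ RingHom.ker ψ, x * y = 0 := by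
    intro x hx y hy
    obtain ⟨x', rfl⟩ := Ideal.Quotient.mk_surjective x
    obtain ⟨y', rfl⟩ := Ideal.Quotient.mk_surjective y
    have hx' : x' ∈ maximalIdeal S := by
      rw [← residue_eq_zero_iff]; exact hx
    have hy' : y' ∈ maximalIdeal S := by
      rw [← residue_eq_zero_iff]; exact hy
    rw [← map_mul, Ideal.Quotient.eq_zero_iff_mem]
    refine Ideal.mem_sup_right ?_
    rw [pow_two]
    exact Ideal.mul_mem_mul hx' hy'
  -- the two changes of variables over the quotient
  set φb : VariableChange (S ⧸ qIdeal R S) := φ.map π with hφb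
  set φ0 : VariableChange (S ⧸ qIdeal R S) := (C₀.map (residue R)).map algκ with hφ0
  have hW : ∀ W : WeierstrassCurve R, (W.map (residue R)).map algκ =
      (W.map (algebraMap R S)).map π := fun W => by
    rw [WeierstrassCurve.map_map, WeierstrassCurve.map_map, hcomp]
  have hfix1 : φb • ((W₁.map (residue R)).map algκ) = (W₂.map (residue R)).map algκ := by
    rw [hW, hW, hφb, map_variableChange, hφ]
  have hfix0 : φ0 • ((W₁.map (residue R)).map algκ) = (W₂.map (residue R)).map algκ := by
    rw [hφ0, map_variableChange, hres]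
  have hfix : (φ0⁻¹ * φb) • ((W₁.map (residue R)).map (algebraMap (ResidueField R)
      (S ⧸ qIdeal R S))) = (W₁.map (residue R)).map (algebraMap (ResidueField R)
      (S ⧸ qIdeal R S)) := by
    rw [halg, mul_smul, hfix1, ← hfix0, inv_smul_smul]
  -- congruence to the identity
  have hmapψ : (φ0⁻¹ * φb).map ψ = 1 := by
    have h1 : φb.map ψ = φ.map (residue S) := by
      rw [hφb, VariableChange.map_map, hψπ]
    have h2 : φ0.map ψ = φ.map (residue S) := by
      rw [hφ0, VariableChange.map_map, VariableChange.map_map, ← hC]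
      rfl
    change VariableChange.mapHom ψ (φ0⁻¹ * φb) = 1
    rw [map_mul, map_inv]
    change (φ0.map ψ)⁻¹ * φb.map ψ = 1
    rw [h1, h2, inv_mul_cancel]
  have hρu : ((φ0⁻¹ * φb).u : S ⧸ qIdeal R S) - 1 ∈ RingHom.ker ψ := by
    have := congrArg (fun C : VariableChange (ResidueField S) => (C.u : ResidueField S)) hmapψ
    simp only [VariableChange.map_u, Units.coe_map, MonoidHom.coe_coe, VariableChange.one_def,
      Units.val_one] at this
    rw [RingHom.mem_ker, map_sub, map_one, this, sub_self]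
  have hρr : (φ0⁻¹ * φb).r ∈ RingHom.ker ψ := by
    have := congrArg (fun C : VariableChange (ResidueField S) => C.r) hmapψ
    simp only [VariableChange.map_r, VariableChange.one_def] at this
    exact (RingHom.mem_ker).mpr this
  have hρs : (φ0⁻¹ * φb).s ∈ RingHom.ker ψ := by
    have := congrArg (fun C : VariableChange (ResidueField S) => C.s) hmapψ
    simp only [VariableChange.map_s, VariableChange.one_def] at this
    exact (RingHom.mem_ker).mpr this
  have hρt : (φ0⁻¹ * φb).t ∈ RingHom.ker ψ := by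
    have := congrArg (fun C : VariableChange (ResidueField S) => C.t) hmapψ
    simp only [VariableChange.map_t, VariableChange.one_def] at this
    exact (RingHom.mem_ker).mpr this
  have hone : φ0⁻¹ * φb = 1 :=
    rigid (RingHom.ker ψ) hN (W₁.map (residue R)) (φ0⁻¹ * φb) hρu hρr hρs hρt hfix
  have heq : φb = φ0 := by
    rw [inv_mul_eq_one] at hone
    exact hone.symm
  have key : ∀ (x : S) (a : R), π x = algκ (residue R a) → x - algebraMap R S a ∈ qIdeal R S := by
    intro x a h
    rw [← Ideal.Quotient.eq_zero_iff_mem, map_sub, sub_eq_zero]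
    exact h
  refine ⟨key _ _ ?_, key _ _ ?_, key _ _ ?_, key _ _ ?_⟩
  · have := congrArg (fun C : VariableChange (S ⧸ qIdeal R S) => (C.u : S ⧸ qIdeal R S)) heq
    simpa only [hφb, hφ0, VariableChange.map_u, Units.coe_map, MonoidHom.coe_coe] using this
  · have := congrArg (fun C : VariableChange (S ⧸ qIdeal R S) => C.r) heq
    simpa only [hφb, hφ0, VariableChange.map_r] using this
  · have := congrArg (fun C : VariableChange (S ⧸ qIdeal R S) => C.s) heq
    simpa only [hφb, hφ0, VariableChange.map_s] using this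
  · have := congrArg (fun C : VariableChange (S ⧸ qIdeal R S) => C.t) heq
    simpa only [hφb, hφ0, VariableChange.map_t] using this

include hφ in
/-- if `S` is generated by the coefficients of the isomorphism, then `S = R` -/
theorem algebraMap_surjective_of_adjoin
    (hgen : Algebra.adjoin R ({(φ.u : S), ((φ.u⁻¹ : Sˣ) : S), φ.r, φ.s, φ.t} : Set S) = ⊤) :
    Function.Surjective (algebraMap R S) := by
  -- the approximating change of variables
  obtain ⟨u₀, hu₀⟩ := exists_sub_mem_maximalIdeal R S (φ.u : S)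
  obtain ⟨r₀, hr₀⟩ := exists_sub_mem_maximalIdeal R S φ.r
  obtain ⟨s₀, hs₀⟩ := exists_sub_mem_maximalIdeal R S φ.s
  obtain ⟨t₀, ht₀⟩ := exists_sub_mem_maximalIdeal R S φ.t
  have hu₀unit : IsUnit u₀ := by
    apply isUnit_of_map_unit (algebraMap R S)
    by_contra hnu
    have h1 : algebraMap R S u₀ ∈ maximalIdeal S := (mem_maximalIdeal _).mpr hnu
    have h2 : (φ.u : S) ∈ maximalIdeal S := by
      have := (maximalIdeal S).add_mem hu₀ h1
      rwa [sub_add_cancel] at this
    exact (mem_maximalIdeal _).mp h2 φ.u.isUnit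
  obtain ⟨u₀', rfl⟩ := hu₀unit
  obtain ⟨hqu, hqr, hqs, hqt⟩ := sub_mem_qIdeal R S W₁ W₂ φ hφ ⟨u₀', r₀, s₀, t₀⟩ hu₀ hr₀ hs₀ ht₀
  simp only at hqu hqr hqs hqt
  -- every element of `S` is congruent to an element of `R` modulo `qIdeal`
  have hall : ∀ x : S, ∃ a : R, x - algebraMap R S a ∈ qIdeal R S := by
    let T : Subalgebra R S :=
      (⊥ : Subalgebra R (S ⧸ qIdeal R S)).comap (Ideal.Quotient.mkₐ R (qIdeal R S))
    have hT : ∀ x : S, x ∈ T ↔ ∃ a : R, x - algebraMap R S a ∈ qIdeal R S := by
      intro x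
      rw [Subalgebra.mem_comap, Algebra.mem_bot]
      constructor
      · rintro ⟨a, ha⟩
        refine ⟨a, ?_⟩
        rw [← Ideal.Quotient.eq_zero_iff_mem, map_sub, sub_eq_zero]
        exact ha.symm
      · rintro ⟨a, ha⟩
        refine ⟨a, ?_⟩
        rw [← Ideal.Quotient.eq_zero_iff_mem, map_sub, sub_eq_zero] at ha
        exact ha.symm
    have hle : Algebra.adjoin R ({(φ.u : S), ((φ.u⁻¹ : Sˣ) : S), φ.r, φ.s, φ.t} : Set S) ≤ T := by
      refine Algebra.adjoin_le ?_
      intro x hx
      simp only [Set.mem_insert_iff, Set.mem_singleton_iff] at hx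
      rw [SetLike.mem_coe, hT]
      rcases hx with rfl | rfl | rfl | rfl | rfl
      · exact ⟨_, hqu⟩
      · refine ⟨((u₀'⁻¹ : Rˣ) : R), ?_⟩
        have h1 : ((φ.u⁻¹ : Sˣ) : S) * (φ.u : S) = 1 := Units.inv_mul _
        have h2 : algebraMap R S ((u₀'⁻¹ : Rˣ) : R) * algebraMap R S (u₀' : R) = 1 := by
          rw [← map_mul, Units.inv_mul, map_one]
        have h3 : ((φ.u⁻¹ : Sˣ) : S) - algebraMap R S ((u₀'⁻¹ : Rˣ) : R) =
            -(((φ.u⁻¹ : Sˣ) : S) * algebraMap R S ((u₀'⁻¹ : Rˣ) : R)) *
              ((φ.u : S) - algebraMap R S (u₀' : R)) := by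
          linear_combination (algebraMap R S ((u₀'⁻¹ : Rˣ) : R)) * h1 -
            ((φ.u⁻¹ : Sˣ) : S) * h2
        rw [h3]
        exact Ideal.mul_mem_left _ _ hqu
      · exact ⟨_, hqr⟩
      · exact ⟨_, hqs⟩
      · exact ⟨_, hqt⟩
    intro x
    rw [← hT]
    exact hle (hgen ▸ Algebra.mem_top)
  have hq_le : qIdeal R S ≤ maximalIdeal S :=
    sup_le (((local_hom_TFAE (algebraMap R S)).out 0 2 rfl rfl).mp inferInstance)
      (Ideal.pow_le_self (by norm_num))
  haveI hNoeS : IsNoetherianRing S := IsNoetherianRing.of_finite R S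
  -- Nakayama over `S`
  have hle1 : maximalIdeal S ≤ (maximalIdeal R).map (algebraMap R S) := by
    refine Submodule.le_of_le_smul_of_le_jacobson_bot (I := maximalIdeal S)
      (IsNoetherian.noetherian _) (maximalIdeal_le_jacobson ⊥) ?_
    intro x hx
    obtain ⟨a, ha⟩ := hall x
    have ha_mem : a ∈ maximalIdeal R := by
      rw [mem_maximalIdeal]
      intro hau
      have h1 : algebraMap R S a ∈ maximalIdeal S := by
        have := (maximalIdeal S).sub_mem hx (hq_le ha)
        rwa [sub_sub_cancel] at this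
      exact (mem_maximalIdeal _).mp h1 (hau.map _)
    rw [smul_eq_mul, ← pow_two]
    have hx' : x = algebraMap R S a + (x - algebraMap R S a) := by ring
    rw [hx']
    exact Submodule.add_mem _ (Ideal.mem_sup_left (Ideal.mem_map_of_mem _ ha_mem)) ha
  -- Nakayama over `R`
  have hle2 : (⊤ : Submodule R S) ≤ LinearMap.range (Algebra.linearMap R S) := by
    refine Submodule.le_of_le_smul_of_le_jacobson_bot (I := maximalIdeal R)
      Module.Finite.fg_top (maximalIdeal_le_jacobson ⊥) ?_
    intro x _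
    obtain ⟨a, ha⟩ := hall x
    have hx : x - algebraMap R S a ∈ (maximalIdeal R).map (algebraMap R S) := by
      have h1 : qIdeal R S ≤ (maximalIdeal R).map (algebraMap R S) :=
        sup_le le_rfl ((Ideal.pow_le_self (by norm_num)).trans hle1)
      exact h1 ha
    have hx' : x = algebraMap R S a + (x - algebraMap R S a) := by ring
    rw [hx']
    refine Submodule.add_mem_sup ⟨a, rfl⟩ ?_
    rw [Ideal.smul_top_eq_map]
    exact hx
  intro y
  obtain ⟨a, ha⟩ := hle2 (Submodule.mem_top (x := y))
  exact ⟨a, ha⟩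

end Core

section Final

variable (R : Type u) [CommRing R] [IsDomain R] [IsNoetherianRing R] [IsLocalRing R]
  [IsAdicComplete (maximalIdeal R) R] [IsAlgClosed (ResidueField R)]
  (W₁ W₂ : WeierstrassCurve R) [W₁.IsElliptic] [W₂.IsElliptic]
  (Kb : Type u) [Field Kb] [Algebra R Kb]

theorem exists_variableChange_of_field (hι : Function.Injective (algebraMap R Kb))
    (φ : VariableChange Kb)
    (hφ : φ • (W₁.map (algebraMap R Kb)) = W₂.map (algebraMap R Kb)) :
    ∃ C : VariableChange R, C • W₁ = W₂ := by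
  classical
  -- the subalgebra generated by the coefficients
  have hint : ∀ x ∈ ({(φ.u : Kb), ((φ.u⁻¹ : Kbˣ) : Kb), φ.r, φ.s, φ.t} : Set Kb),
      IsIntegral R x := by
    intro x hx
    simp only [Set.mem_insert_iff, Set.mem_singleton_iff] at hx
    rcases hx with rfl | rfl | rfl | rfl | rfl
    · exact isIntegral_u W₁ W₂ φ hφ
    · exact isIntegral_u_inv W₁ W₂ φ hφ
    · exact isIntegral_r W₁ W₂ φ hφ
    · exact isIntegral_s W₁ W₂ φ hφ
    · exact isIntegral_t W₁ W₂ φ hφ
  have hfinset : ({(φ.u : Kb), ((φ.u⁻¹ : Kbˣ) : Kb), φ.r, φ.s, φ.t} : Set Kb).Finite := by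
    simp only [Set.finite_insert, Set.finite_singleton]
  haveI hfin : Module.Finite R
      (Algebra.adjoin R ({(φ.u : Kb), ((φ.u⁻¹ : Kbˣ) : Kb), φ.r, φ.s, φ.t} : Set Kb)) :=
    Algebra.finite_adjoin_of_finite_of_isIntegral hfinset hint
  set S : Subalgebra R Kb :=
    Algebra.adjoin R ({(φ.u : Kb), ((φ.u⁻¹ : Kbˣ) : Kb), φ.r, φ.s, φ.t} : Set Kb) with hS
  haveI hHens : HenselianLocalRing R := by
    have hH : HenselianRing R (maximalIdeal R) := inferInstance
    exact { is_henselian := fun f hf a₀ h₁ h₂ => hH.is_henselian f hf a₀ h₁ (h₂.map _) }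
  haveI hintS : Algebra.IsIntegral R S := Algebra.IsIntegral.of_finite R S
  haveI hlocS : IsLocalRing S :=
    Groth.Agent.Lib.Helper36.Olivier.isLocalRing_of_isIntegral_of_isDomain R S
  have hinjS : Function.Injective (algebraMap R S) := by
    intro a b hab
    apply hι
    exact congrArg Subtype.val hab
  haveI hfaith : FaithfulSMul R S := (faithfulSMul_iff_algebraMap_injective R S).mpr hinjS
  haveI hlochom : IsLocalHom (algebraMap R S) := Algebra.IsIntegral.isLocalHom R S
  -- the change of variables over `S`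
  have hmem : ∀ x ∈ ({(φ.u : Kb), ((φ.u⁻¹ : Kbˣ) : Kb), φ.r, φ.s, φ.t} : Set Kb), x ∈ S :=
    fun x hx => Algebra.subset_adjoin hx
  have hmu : (φ.u : Kb) ∈ S := hmem _ (by simp)
  have hmv : ((φ.u⁻¹ : Kbˣ) : Kb) ∈ S := hmem _ (by simp)
  have hmr : φ.r ∈ S := hmem _ (by simp)
  have hms : φ.s ∈ S := hmem _ (by simp)
  have hmt : φ.t ∈ S := hmem _ (by simp)
  let uS : Sˣ := ⟨⟨(φ.u : Kb), hmu⟩, ⟨((φ.u⁻¹ : Kbˣ) : Kb), hmv⟩,
    Subtype.ext (Units.mul_inv _), Subtype.ext (Units.inv_mul _)⟩
  let φS : VariableChange S := ⟨uS, ⟨φ.r, hmr⟩, ⟨φ.s, hms⟩, ⟨φ.t, hmt⟩⟩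
  have hφS_map : φS.map S.val.toRingHom = φ := by
    ext <;> rfl
  have hφS : φS • (W₁.map (algebraMap R S)) = W₂.map (algebraMap R S) := by
    apply WeierstrassCurve.map_injective (f := S.val.toRingHom) Subtype.val_injective
    change (φS • W₁.map (algebraMap R S)).map S.val.toRingHom =
      (W₂.map (algebraMap R S)).map S.val.toRingHom
    rw [← map_variableChange, hφS_map, WeierstrassCurve.map_map, WeierstrassCurve.map_map]
    exact hφ
  have hgen : Algebra.adjoin R ({(φS.u : S), ((φS.u⁻¹ : Sˣ) : S), φS.r, φS.s, φS.t} : Set S)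
      = ⊤ := by
    have h0 := Algebra.adjoin_adjoin_coe_preimage (R := R)
      (s := ({(φ.u : Kb), ((φ.u⁻¹ : Kbˣ) : Kb), φ.r, φ.s, φ.t} : Set Kb))
    have hset : ((↑) : S → Kb) ⁻¹' ({(φ.u : Kb), ((φ.u⁻¹ : Kbˣ) : Kb), φ.r, φ.s, φ.t} : Set Kb)
        = ({(φS.u : S), ((φS.u⁻¹ : Sˣ) : S), φS.r, φS.s, φS.t} : Set S) := by
      ext x
      simp only [Set.mem_preimage, Set.mem_insert_iff, Set.mem_singleton_iff, Subtype.ext_iff]
      rfl
    rw [← hset]
    exact h0
  have hsurj := algebraMap_surjective_of_adjoin R S W₁ W₂ φS hφS hgen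
  -- descend to `R`
  have hrange : ∀ x : Kb, x ∈ S → x ∈ Set.range (algebraMap R Kb) := by
    intro x hx
    obtain ⟨a, ha⟩ := hsurj ⟨x, hx⟩
    exact ⟨a, congrArg Subtype.val ha⟩
  obtain ⟨C, hC⟩ := exists_map_eq (algebraMap R Kb) hι φ (hrange _ hmu) (hrange _ hmv)
    (hrange _ hmr) (hrange _ hms) (hrange _ hmt)
  refine ⟨C, ?_⟩
  apply WeierstrassCurve.map_injective hι
  change (C • W₁).map (algebraMap R Kb) = W₂.map (algebraMap R Kb)
  rw [← map_variableChange, hC, hφ]

theorem exists_variableChange (hj : W₁.j = W₂.j) : ∃ C : VariableChange R, C • W₁ = W₂ := by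
  have hι : Function.Injective (algebraMap R (AlgebraicClosure (FractionRing R))) := by
    rw [IsScalarTower.algebraMap_eq R (FractionRing R) (AlgebraicClosure (FractionRing R))]
    exact (algebraMap (FractionRing R) (AlgebraicClosure (FractionRing R))).injective.comp
      (IsFractionRing.injective R (FractionRing R))
  obtain ⟨φ, hφ⟩ := exists_variableChange_of_j_eq
    (W₁.map (algebraMap R (AlgebraicClosure (FractionRing R))))
    (W₂.map (algebraMap R (AlgebraicClosure (FractionRing R)))) (by rw [map_j, map_j, hj])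
  exact exists_variableChange_of_field R W₁ W₂ (AlgebraicClosure (FractionRing R)) hι φ hφ

end Final

end Groth.Agent.Lib.Helper88.EllIso
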